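import Mathlib
import Cfsg.Agent.S0112
import Cfsg.Agent.Transfer.MaximalClass

/-!
# S3325, piece B1a: 2-groups with an involution whose centralizer is dihedral or a four-group
-/

set_option autoImplicit false

namespace Cfsg.Agent.H807.S33

open Subgroup

universe u

section dih

variable {G : Type u} [Group G] {c y : G}

theorem yci (hyc : y * c * y⁻¹ = c⁻¹) (i : ℤ) : y * c ^ i * y⁻¹ = (c ^ i)⁻¹ := by
  rw [← conj_zpow, hyc, inv_zpow]

/-- `y c ^ i = c ^ -i y` -/
theorem ycs (hyc : y * c * y⁻¹ = c⁻¹) (i : ℤ) : y * c ^ i = (c ^ i)⁻¹ * y := by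
  rw [← yci hyc i]
  group

theorem sq_dih (hyy : y * y = 1) (hyc : y * c * y⁻¹ = c⁻¹) (i : ℤ) : c ^ i * y * (c ^ i * y) = 1 := by
  have h := ycs hyc i
  calc c ^ i * y * (c ^ i * y) = c ^ i * (y * c ^ i) * y := by group
    _ = c ^ i * ((c ^ i)⁻¹ * y) * y := by rw [h]
    _ = y * y := by group
    _ = 1 := hyy

/-- the elements of a dihedral group -/
theorem mem_dih (hyy : y * y = 1) (hyc : y * c * y⁻¹ = c⁻¹) {x : G} (hx : x ∈ zpowers c ⊔ zpowers y) :
    ∃ i : ℤ, x = c ^ i ∨ x = c ^ i * y := by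
  have hyi : y⁻¹ = y := inv_eq_of_mul_eq_one_left hyy
  rw [← zpowers_le, zpowers_le, sup_eq_closure_mul] at hx
  refine closure_induction (p := fun x _ => ∃ i : ℤ, x = c ^ i ∨ x = c ^ i * y) ?_ ⟨0, .inl (zpow_zero c).symm⟩
    ?_ ?_ hx
  · rintro _ ⟨a, ⟨i, rfl⟩, b, ⟨j, rfl⟩, rfl⟩
    have h1 : y ^ j = 1 ∨ y ^ j = y := by
      rcases Int.even_or_odd' j with ⟨k, rfl | rfl⟩
      · left
        rw [zpow_mul, zpow_two, hyy, one_zpow]
      · right
        rw [zpow_add, zpow_mul, zpow_two, hyy, one_zpow, one_mul, zpow_one]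
    rcases h1 with h | h
    · exact ⟨i, .inl (show c ^ i * y ^ j = c ^ i by rw [h, mul_one])⟩
    · exact ⟨i, .inr (show c ^ i * y ^ j = c ^ i * y by rw [h])⟩
  · rintro a b - - ⟨i, hi⟩ ⟨j, hj⟩
    rcases hi with rfl | rfl <;> rcases hj with rfl | rfl
    · exact ⟨i + j, .inl (zpow_add c i j).symm⟩
    · exact ⟨i + j, .inr (by rw [zpow_add, mul_assoc])⟩
    · refine ⟨i - j, .inr ?_⟩
      rw [mul_assoc, ycs hyc j, zpow_sub, mul_assoc]
    · refine ⟨i - j, .inl ?_⟩
      rw [mul_assoc, ← mul_assoc y, ycs hyc j, mul_assoc, hyy, mul_one, zpow_sub]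
  · rintro a - ⟨i, hi⟩
    rcases hi with rfl | rfl
    · exact ⟨-i, .inl (zpow_neg c i).symm⟩
    · refine ⟨i, .inr ?_⟩
      exact inv_eq_of_mul_eq_one_left (sq_dih hyy hyc i)

theorem zy_relIndex (hyy : y * y = 1) (hyc : y * c * y⁻¹ = c⁻¹) (hy : y ∉ zpowers c) :
    (zpowers c).relIndex (zpowers c ⊔ zpowers y) = 2 := by
  rw [relIndex_eq_two_iff]
  refine ⟨y, mem_sup_right (mem_zpowers y), fun b hb => ?_⟩
  obtain ⟨i, rfl | rfl⟩ := mem_dih hyy hyc hb
  · refine .inr ⟨⟨i, rfl⟩, fun h => hy ?_⟩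
    have h1 : (c ^ i)⁻¹ * (c ^ i * y) ∈ zpowers c := mul_mem (inv_mem ⟨i, rfl⟩) h
    rwa [inv_mul_cancel_left] at h1
  · refine .inl ⟨?_, fun h => hy ?_⟩
    · rw [mul_assoc, hyy, mul_one]
      exact ⟨i, rfl⟩
    · have h1 : (c ^ i)⁻¹ * (c ^ i * y) ∈ zpowers c := mul_mem (inv_mem ⟨i, rfl⟩) h
      rwa [inv_mul_cancel_left] at h1

theorem card_dih (hyy : y * y = 1) (hyc : y * c * y⁻¹ = c⁻¹) (hy : y ∉ zpowers c) :
    Nat.card ↥(zpowers c ⊔ zpowers y) = 2 * orderOf c := by
  have h := relIndex_mul_relIndex ⊥ (zpowers c) (zpowers c ⊔ zpowers y) bot_le le_sup_left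
  rw [zy_relIndex hyy hyc hy, relIndex_bot_left, relIndex_bot_left, Nat.card_zpowers] at h
  rw [← h, mul_comm]

end dih

section invo

variable {G : Type u} [Group G] [Finite G]

/-- a cyclic group has at most one involution -/
theorem invo_unique {c a b : G} (ha : a ∈ zpowers c) (hb : b ∈ zpowers c) (ha1 : a ≠ 1) (hb1 : b ≠ 1)
    (haa : a * a = 1) (hbb : b * b = 1) : a = b := by
  classical
  have := Fintype.ofFinite ↥(zpowers c)
  have h := IsCyclic.card_pow_eq_one_le (α := zpowers c) (n := 2) (by norm_num)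
  by_contra hab
  have h1 : ({1, ⟨a, ha⟩, ⟨b, hb⟩} : Finset ↥(zpowers c)) ⊆ Finset.univ.filter (fun x => x ^ 2 = 1) := by
    intro x hx
    simp only [Finset.mem_insert, Finset.mem_singleton] at hx
    rw [Finset.mem_filter]
    refine ⟨Finset.mem_univ _, ?_⟩
    rcases hx with rfl | rfl | rfl
    · exact one_pow 2
    · exact Subtype.ext ((pow_two a).trans haa)
    · exact Subtype.ext ((pow_two b).trans hbb)
  have h2 := (Finset.card_le_card h1).trans h
  rw [Finset.card_insert_of_notMem, Finset.card_insert_of_notMem, Finset.card_singleton] at h2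
  · omega
  · rw [Finset.mem_singleton]
    exact fun h => hab (congrArg Subtype.val h)
  · rw [Finset.mem_insert, Finset.mem_singleton]
    rintro (h | h)
    · exact ha1 (congrArg Subtype.val h).symm
    · exact hb1 (congrArg Subtype.val h).symm

/-- **A `2`-group with an involution `t` whose centralizer is dihedral (or a four-group) has a cyclic subgroup of
index 2.** -/
theorem cyc_of_cent (hG : IsPGroup 2 G) {t c y : G} (ht1 : t ≠ 1) (htt : t * t = 1) (htc : t ∈ zpowers c)
    (hyy : y * y = 1) (hyc : y * c * y⁻¹ = c⁻¹) (hy : y ∉ zpowers c)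
    (hcen : ∀ x, x * t = t * x → ∃ i : ℤ, x = c ^ i ∨ x = c ^ i * y) :
    ∃ C : Subgroup G, IsCyclic C ∧ C.index = 2 := by
  have : Fact (Nat.Prime 2) := ⟨Nat.prime_two⟩
  have hTc : centralizer {t} = zpowers c ⊔ zpowers y := by
    apply le_antisymm
    · intro x hx
      obtain ⟨i, rfl | rfl⟩ := hcen x (mem_centralizer_singleton_iff.1 hx)
      · exact mem_sup_left ⟨i, rfl⟩
      · exact mul_mem (mem_sup_left ⟨i, rfl⟩) (mem_sup_right (mem_zpowers y))
    · obtain ⟨k, rfl⟩ := htc
      rw [sup_le_iff, zpowers_le, zpowers_le, mem_centralizer_singleton_iff, mem_centralizer_singleton_iff]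
      refine ⟨(Commute.refl c).zpow_right k, ?_⟩
      have h1 := ycs hyc k
      have h2 : (c ^ k)⁻¹ = c ^ k := inv_eq_of_mul_eq_one_left htt
      rw [h2] at h1
      exact h1
  have hcard : Nat.card ↥(centralizer {t}) = 2 * orderOf c := by rw [hTc, card_dih hyy hyc hy]
  by_cases hcc : c * c = 1
  · -- a self-centralizing four-group
    have hc1 : c ≠ 1 := by
      rintro rfl
      rw [zpowers_one_eq_bot, mem_bot] at htc
      exact ht1 htc
    have hct : c = t := invo_unique (mem_zpowers c) htc hc1 ht1 hcc htt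
    have hoc : orderOf c = 2 := orderOf_eq_prime (by rw [pow_two]; exact hcc) hc1
    obtain ⟨n, hn⟩ := hG.exists_card_eq
    have h4 : Nat.card ↥(centralizer {t}) = 2 ^ 2 := by rw [hcard, hoc]; norm_num
    have hself : centralizer ((centralizer {t} : Subgroup G) : Set G) = centralizer {t} := by
      apply le_antisymm
      · refine centralizer_le ?_
        rintro _ rfl
        exact mem_centralizer_singleton_iff.2 rfl
      · have h5 : IsMulCommutative ↥(centralizer {t}) :=
          IsPGroup.isMulCommutative_of_card_eq_prime_sq h4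
        intro a ha
        rw [mem_centralizer_iff]
        intro b hb
        exact congrArg Subtype.val (mul_comm' (⟨b, hb⟩ : ↥(centralizer {t})) ⟨a, ha⟩)
    by_cases h3 : 3 ≤ n
    · have h6 := S0112.result n hn (centralizer {t}) h4 hself
      exact Transfer.MaximalClass.exists_isCyclic_index_two_of_maxClass n h3 G hn h6
    · refine ⟨zpowers c, inferInstance, ?_⟩
      have h7 := (zpowers c).card_mul_index
      rw [Nat.card_zpowers, hoc, hn] at h7
      have h8 := card_subgroup_dvd_card (centralizer {t})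
      rw [h4, hn] at h8
      have h9 := (Nat.pow_dvd_pow_iff_le_right (by norm_num)).1 h8
      have : n = 2 := by omega
      subst this
      omega
  · -- dihedral of order at least 8: self-normalizing
    obtain ⟨d, hd, hdd⟩ : ∃ d ∈ zpowers c, d * d = t := by
      obtain ⟨k, hk⟩ := (IsPGroup.iff_orderOf.1 hG) c
      have hk2 : 2 ≤ k := by
        by_contra hk2
        apply hcc
        have h1 := pow_orderOf_eq_one c
        rw [hk] at h1
        have h2 : k = 0 ∨ k = 1 := by omega
        rcases h2 with rfl | rfl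
        · rw [pow_zero, pow_one] at h1
          rw [h1, one_mul]
        · rw [pow_one, pow_two] at h1
          exact h1
      refine ⟨c ^ 2 ^ (k - 2), pow_mem (mem_zpowers c) _, ?_⟩
      rw [← pow_add, ← two_mul, ← pow_succ']
      have hk3 : k - 2 + 1 = k - 1 := by omega
      rw [hk3]
      refine invo_unique (pow_mem (mem_zpowers c) _) htc (fun h => ?_) ht1 ?_ htt
      · have h1 := orderOf_dvd_of_pow_eq_one h
        rw [hk] at h1
        have := (Nat.pow_dvd_pow_iff_le_right (by norm_num)).1 h1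
        omega
      · rw [← pow_add, ← two_mul, ← pow_succ', show k - 1 + 1 = k by omega, ← hk, pow_orderOf_eq_one]
    have htop : centralizer {t} = ⊤ := by
      by_contra hne
      have := hG.isNilpotent
      have h1 := Group.normalizerCondition_of_isNilpotent (G := G) (centralizer {t}) (lt_top_iff_ne_top.2 hne)
      obtain ⟨x, hx, hxn⟩ := SetLike.exists_of_lt h1
      apply hxn
      have hdc : d ∈ centralizer {t} := by
        rw [hTc]
        exact mem_sup_left hd
      have h2 : x * d * x⁻¹ ∈ centralizer {t} := (mem_normalizer_iff.1 hx d).1 hdc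
      have h3 : x * t * x⁻¹ ∈ zpowers c := by
        have h4 : x * t * x⁻¹ = (x * d * x⁻¹) * (x * d * x⁻¹) := by rw [← hdd]; group
        obtain ⟨i, hi | hi⟩ := hcen _ (mem_centralizer_singleton_iff.1 h2)
        · rw [h4, hi]
          exact mul_mem ⟨i, rfl⟩ ⟨i, rfl⟩
        · rw [h4, hi, sq_dih hyy hyc]
          exact one_mem _
      have h5 : x * t * x⁻¹ = t := by
        refine invo_unique h3 htc (fun h => ht1 ?_) ht1 ?_ htt
        · have h6 : t = x⁻¹ * (x * t * x⁻¹) * x := by group
          rw [h6, h]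
          group
        · calc x * t * x⁻¹ * (x * t * x⁻¹) = x * (t * t) * x⁻¹ := by group
            _ = 1 := by rw [htt]; group
      rw [mem_centralizer_singleton_iff]
      exact mul_inv_eq_iff_eq_mul.1 h5
    refine ⟨zpowers c, inferInstance, ?_⟩
    have h1 := (zpowers c).card_mul_index
    rw [Nat.card_zpowers] at h1
    have h2 : Nat.card G = 2 * orderOf c := by
      rw [← hcard, htop, card_top]
    rw [h2] at h1
    have h3 : 0 < orderOf c := orderOf_pos c
    exact Nat.eq_of_mul_eq_mul_left h3 (by rw [h1, mul_comm])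

/-- an elementary abelian subgroup of a group with a cyclic subgroup of index 2 has order at most 4 -/
theorem card_le_four {C : Subgroup G} (hC : IsCyclic C) (hC2 : C.index = 2) {E : Subgroup G}
    (hE : ∀ e ∈ E, e * e = 1) : Nat.card E ≤ 4 := by
  have h1 : Nat.card ↥(C ⊓ E) ≤ 2 := by
    obtain ⟨c, hc⟩ := hC.exists_generator
    have hcz : ∀ x ∈ C, x ∈ zpowers (c : G) := fun x hx => by
      obtain ⟨i, hi⟩ := hc ⟨x, hx⟩
      exact ⟨i, congrArg Subtype.val hi⟩
    by_contra hlt
    push Not at hlt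
    have h2 : ∃ a ∈ C ⊓ E, a ≠ 1 ∧ ∃ b ∈ C ⊓ E, b ≠ 1 ∧ a ≠ b := by
      by_contra hcon
      push Not at hcon
      have h3 : ∃ a ∈ C ⊓ E, a ≠ 1 := by
        by_contra h4
        push Not at h4
        have h5 : C ⊓ E = ⊥ := (eq_bot_iff_forall _).2 h4
        rw [h5, card_bot] at hlt
        omega
      obtain ⟨a, ha, ha1⟩ := h3
      have h4 : ∀ b ∈ C ⊓ E, b = 1 ∨ b = a := fun b hb => by
        by_cases hb1 : b = 1
        · exact .inl hb1
        · exact .inr (hcon a ha ha1 b hb hb1).symm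
      have h5 : ((C ⊓ E : Subgroup G) : Set G) ⊆ {1, a} := fun b hb => h4 b hb
      have h6 := Set.ncard_le_ncard h5 (Set.toFinite _)
      have h7 : ((C ⊓ E : Subgroup G) : Set G).ncard = Nat.card ↥(C ⊓ E) := rfl
      rw [h7] at h6
      have h8 : ({1, a} : Set G).ncard ≤ 2 := by
        refine (Set.ncard_insert_le _ _).trans ?_
        rw [Set.ncard_singleton]
      omega
    obtain ⟨a, ha, ha1, b, hb, hb1, hab⟩ := h2
    exact hab (invo_unique (hcz a ha.1) (hcz b hb.1) ha1 hb1 (hE a ha.2) (hE b hb.2))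
  have h2 : C.relIndex E ≤ 2 := by
    have h3 := relIndex_le_of_le_right (H := C) (le_top : E ≤ ⊤) (by rw [relIndex_top_right, hC2]; norm_num)
    rwa [relIndex_top_right, hC2] at h3
  have h3 : C.relIndex E * Nat.card ↥(C ⊓ E) = Nat.card E := by
    have h := relIndex_mul_relIndex ⊥ (C ⊓ E) E bot_le inf_le_right
    rw [relIndex_bot_left, relIndex_bot_left, inf_relIndex_right] at h
    rw [← h, mul_comm]
  calc Nat.card E = C.relIndex E * Nat.card ↥(C ⊓ E) := h3.symm
    _ ≤ 2 * 2 := Nat.mul_le_mul h2 h1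
    _ = 4 := rfl

end invo

end Cfsg.Agent.H807.S33
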