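import Cfsg.Agent.H323.OI.Pieces
import Cfsg.Agent.Held.AffineCaseZ
import Cfsg.Agent.SignalizersComponents.Components
import Cfsg.Agent.S2906
import Cfsg.Agent.H807.S33.Dih

/-!
# S3325, piece B1a
-/

set_option autoImplicit false

namespace Cfsg.Agent.H807.S33

open Cfsg Subgroup Cfsg.Agent.H323.OI

section rank

variable {G : Type} [Group G] [Finite G]

/-- `R` a group containing the dihedral group `⟨c, y⟩` (`t ∈ ⟨c⟩` the central involution) which has odd index in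
`C_R(t)`: `R` has no elementary abelian subgroup of order 16 -/
theorem rank_le {R : Subgroup G} {t c y : G} (hcR : c ∈ R) (hyR : y ∈ R) (ht1 : t ≠ 1) (htt : t * t = 1)
    (htc : t ∈ zpowers c) (hyy : y * y = 1) (hyc : y * c * y⁻¹ = c⁻¹) (hy : y ∉ zpowers c)
    (hodd : Odd ((zpowers c ⊔ zpowers y).relIndex (centralizer {t} ⊓ R))) {E : Subgroup G} (hER : E ≤ R)
    (hE : ∀ e ∈ E, e * e = 1) : Nat.card E ≤ 4 := by
  have : Fact (Nat.Prime 2) := ⟨Nat.prime_two⟩
  -- the 2-part of `c`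
  obtain ⟨k, m, hm, hkm⟩ := Nat.exists_eq_two_pow_mul_odd (n := orderOf c) (orderOf_pos c).ne'
  have hoc : orderOf (c ^ m) = 2 ^ k := by
    rw [orderOf_pow' c (by rintro rfl; simp at hm), hkm, Nat.gcd_eq_right (Dvd.intro_left _ rfl),
      Nat.mul_div_cancel _ hm.pos]
  have htc' : t ∈ zpowers (c ^ m) := by
    obtain ⟨j, rfl⟩ := htc
    have h1 : c ^ (j + j) = 1 := by rw [zpow_add]; exact htt
    have h2 : ((orderOf c : ℕ) : ℤ) ∣ j + j := orderOf_dvd_iff_zpow_eq_one.2 h1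
    have h3 : (m : ℤ) ∣ 2 * j := by
      refine dvd_trans ?_ (h2.trans (by rw [two_mul]))
      rw [hkm, Nat.cast_mul]
      exact Dvd.intro_left _ rfl
    have h4 : IsCoprime (m : ℤ) 2 := by
      rw [show (2 : ℤ) = ((2 : ℕ) : ℤ) from rfl, Nat.isCoprime_iff_coprime]
      exact Nat.coprime_two_right.2 hm
    obtain ⟨i, rfl⟩ := h4.dvd_of_dvd_mul_left h3
    exact ⟨i, show (c ^ m) ^ i = c ^ ((m : ℤ) * i) by rw [zpow_mul, zpow_natCast]⟩
  have hyc' : y * c ^ m * y⁻¹ = (c ^ m)⁻¹ := by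
    have h := yci hyc (m : ℤ)
    rwa [zpow_natCast] at h
  have hy' : y ∉ zpowers (c ^ m) := fun h => hy (zpowers_le.2 (pow_mem (mem_zpowers c) m) h)
  have hT0 : Nat.card ↥(zpowers (c ^ m) ⊔ zpowers y) = 2 ^ (k + 1) := by
    rw [card_dih hyy hyc' hy', hoc, pow_succ']
  set T0 : Subgroup G := zpowers (c ^ m) ⊔ zpowers y with hT0def
  have hT0R : T0 ≤ R := sup_le (zpowers_le.2 (pow_mem hcR m)) (zpowers_le.2 hyR)
  have hcC : c ∈ centralizer {t} := by
    obtain ⟨j, rfl⟩ := htc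
    rw [mem_centralizer_singleton_iff]
    exact (Commute.refl c).zpow_right j
  have hyC : y ∈ centralizer {t} := by
    obtain ⟨j, rfl⟩ := htc
    rw [mem_centralizer_singleton_iff]
    have h1 := ycs hyc j
    rwa [show (c ^ j)⁻¹ = c ^ j from inv_eq_of_mul_eq_one_left htt] at h1
  -- Sylow subgroups of `R`
  have hp1 : IsPGroup 2 ↥(T0.subgroupOf R) :=
    IsPGroup.of_card (n := k + 1) (by rw [Nat.card_congr (subgroupOfEquivOfLe hT0R).toEquiv, hT0])
  have hp2 : IsPGroup 2 ↥(E.subgroupOf R) := by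
    intro ⟨⟨e, he⟩, heE⟩
    exact ⟨1, Subtype.ext (Subtype.ext (by
      show e ^ 2 ^ 1 = 1
      rw [pow_one, pow_two]
      exact hE e heE))⟩
  obtain ⟨P, hP⟩ := hp1.exists_le_sylow
  obtain ⟨P', hP'⟩ := hp2.exists_le_sylow
  obtain ⟨r, hr⟩ := MulAction.exists_smul_eq R P' P
  -- the involution in `P`
  have hT0P : ∀ x (hx : x ∈ T0), (⟨x, hT0R hx⟩ : R) ∈ (P : Subgroup R) := fun x hx => hP hx
  have hcT : c ^ m ∈ T0 := mem_sup_left (mem_zpowers _)
  have hyT : y ∈ T0 := mem_sup_right (mem_zpowers _)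
  have htT : t ∈ T0 := mem_sup_left htc'
  let c' : ↥(P : Subgroup R) := ⟨_, hT0P _ hcT⟩
  let y' : ↥(P : Subgroup R) := ⟨_, hT0P _ hyT⟩
  let t' : ↥(P : Subgroup R) := ⟨_, hT0P _ htT⟩
  have hz : ∀ x : ↥(P : Subgroup R), x ∈ zpowers c' ↔ ((x : R) : G) ∈ zpowers (c ^ m) := fun x => by
    constructor
    · rintro ⟨i, rfl⟩
      exact ⟨i, rfl⟩
    · rintro ⟨i, hi⟩
      exact ⟨i, Subtype.ext (Subtype.ext hi)⟩
  obtain ⟨C, hC, hC2⟩ : ∃ C : Subgroup ↥(P : Subgroup R), IsCyclic C ∧ C.index = 2 := by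
    refine cyc_of_cent P.isPGroup' (t := t') (c := c') (y := y')
      (fun h => ht1 (congrArg (fun x : ↥(P : Subgroup R) => ((x : R) : G)) h))
      (Subtype.ext (Subtype.ext htt)) ((hz _).2 htc') (Subtype.ext (Subtype.ext hyy))
      (Subtype.ext (Subtype.ext hyc')) (fun h => hy' ((hz _).1 h)) fun x hx => ?_
    -- `C_P(t) = T0`
    have h1 : (((P : Subgroup R).map R.subtype) ⊓ centralizer {t} : Subgroup G) = T0 := by
      symm
      apply eq_of_le_of_card_ge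
      · refine le_inf (fun x hx => ⟨⟨x, hT0R hx⟩, hT0P x hx, rfl⟩) ?_
        exact (sup_le (zpowers_le.2 (pow_mem hcC m)) (zpowers_le.2 hyC))
      · have h2 : IsPGroup 2 ↥((P : Subgroup R).map R.subtype ⊓ centralizer {t} : Subgroup G) :=
          (P.isPGroup'.map R.subtype).to_le inf_le_left
        obtain ⟨b, hb⟩ := h2.exists_card_eq
        have h3 : Nat.card ↥((P : Subgroup R).map R.subtype ⊓ centralizer {t} : Subgroup G) ∣
            Nat.card ↥(centralizer {t} ⊓ R) := by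
          refine card_dvd_of_le (le_inf inf_le_right (inf_le_left.trans ?_))
          rintro _ ⟨x, -, rfl⟩
          exact x.2
        have h4 := relIndex_mul_relIndex ⊥ (zpowers c ⊔ zpowers y) (centralizer {t} ⊓ R) bot_le
          (sup_le (zpowers_le.2 ⟨hcC, hcR⟩) (zpowers_le.2 ⟨hyC, hyR⟩))
        rw [relIndex_bot_left, relIndex_bot_left, card_dih hyy hyc hy, hkm] at h4
        rw [hb, ← h4, ← mul_assoc, ← pow_succ', mul_assoc] at h3
        have h5 : Nat.Coprime (2 ^ b)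
            (m * (zpowers c ⊔ zpowers y).relIndex (centralizer {t} ⊓ R)) :=
          Nat.Coprime.pow_left _ (Nat.coprime_two_left.2 (hm.mul hodd))
        rw [hb, hT0]
        exact Nat.le_of_dvd (by positivity) (h5.dvd_of_dvd_mul_right h3)
    have h2 : ((x : R) : G) ∈ T0 := by
      rw [← h1]
      refine ⟨⟨x, x.2, rfl⟩, mem_centralizer_singleton_iff.2 ?_⟩
      exact congrArg (fun x : ↥(P : Subgroup R) => ((x : R) : G)) hx
    obtain ⟨i, hi | hi⟩ := mem_dih hyy hyc' h2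
    · exact ⟨i, .inl (Subtype.ext (Subtype.ext hi))⟩
    · exact ⟨i, .inr (Subtype.ext (Subtype.ext hi))⟩
  -- the elementary abelian subgroup
  let f : E → ↥(P : Subgroup R) := fun e => ⟨r * ⟨e, hER e.2⟩ * r⁻¹, by
    have h1 : (⟨e, hER e.2⟩ : R) ∈ (P' : Subgroup R) := hP' e.2
    rw [← hr, Sylow.coe_subgroup_smul, mem_smul_pointwise_iff_exists]
    exact ⟨_, h1, rfl⟩⟩
  let F : E →* ↥(P : Subgroup R) :=
    { toFun := f
      map_one' := by
        refine Subtype.ext ?_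
        show r * 1 * r⁻¹ = 1
        group
      map_mul' := fun a b => by
        refine Subtype.ext ?_
        show r * (⟨a, hER a.2⟩ * ⟨b, hER b.2⟩) * r⁻¹ = r * ⟨a, hER a.2⟩ * r⁻¹ * (r * ⟨b, hER b.2⟩ * r⁻¹)
        group }
  have hF : Function.Injective F := fun a b hab => by
    have h1 : r * ⟨a, hER a.2⟩ * r⁻¹ = r * ⟨b, hER b.2⟩ * r⁻¹ := congrArg Subtype.val hab
    have h2 : (⟨a, hER a.2⟩ : R) = ⟨b, hER b.2⟩ := mul_left_cancel (mul_right_cancel h1)
    exact Subtype.ext (congrArg (fun x : R => (x : G)) h2)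
  have h5 := card_le_four hC hC2 (E := F.range) (by
    rintro _ ⟨e, rfl⟩
    rw [← map_mul, show e * e = 1 from Subtype.ext (hE e e.2), map_one])
  rwa [← Nat.card_congr (MonoidHom.ofInjective hF).toEquiv] at h5

omit [Finite G] in
/-- a 2-element is conjugate into a subgroup of odd index -/
theorem exists_conj_of_odd {Q D : Subgroup G} (hodd : Odd (D.relIndex Q)) {x : G} (hx : x ∈ Q)
    (hxx : x * x = 1) : ∃ q ∈ Q, q * x * q⁻¹ ∈ D := by
  have : Fact (Nat.Prime 2) := ⟨Nat.prime_two⟩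
  have hp : IsPGroup 2 ↥(zpowers (⟨x, hx⟩ : Q)) := by
    rintro ⟨_, i, rfl⟩
    refine ⟨1, Subtype.ext ?_⟩
    show ((⟨x, hx⟩ : Q) ^ i) ^ 2 ^ 1 = 1
    rw [pow_one, ← zpow_natCast, ← zpow_mul, mul_comm, zpow_mul, zpow_natCast]
    have h1 : (⟨x, hx⟩ : Q) ^ 2 = 1 := Subtype.ext (by rw [pow_two]; exact hxx)
    rw [h1, one_zpow]
  have hnd : ¬ 2 ∣ Nat.card (Q ⧸ D.subgroupOf Q) := by
    rw [← even_iff_two_dvd, Nat.not_even_iff_odd]
    exact hodd
  obtain ⟨a, ha⟩ := hp.nonempty_fixed_point_of_prime_not_dvd_card (Q ⧸ D.subgroupOf Q) hnd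
  obtain ⟨q, rfl⟩ := QuotientGroup.mk_surjective a
  have h2 := ha ⟨⟨x, hx⟩, mem_zpowers _⟩
  have h3 : (QuotientGroup.mk ((⟨x, hx⟩ : Q) * q) : Q ⧸ D.subgroupOf Q) = QuotientGroup.mk q := h2
  rw [QuotientGroup.eq] at h3
  have h4 : (((⟨x, hx⟩ : Q) * q)⁻¹ * q : Q).1 ∈ D := h3
  refine ⟨(q : G)⁻¹, inv_mem q.2, ?_⟩
  have h5 : (q : G)⁻¹ * x * (q : G)⁻¹⁻¹ = (((⟨x, hx⟩ : Q) * q)⁻¹ * q : Q).1 := by
    show (q : G)⁻¹ * x * (q : G)⁻¹⁻¹ = (x * q)⁻¹ * q
    have h6 : x⁻¹ = x := inv_eq_of_mul_eq_one_left hxx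
    rw [mul_inv_rev, h6, inv_inv]
  rw [h5]
  exact h4

omit [Finite G] in
theorem conj_all {c y v : G} (hyc : y * c * y⁻¹ = c⁻¹) (hvy : v * y * v⁻¹ = y * c) (hvc : v * c * v⁻¹ = c⁻¹)
    (i : ℤ) : IsConj (c ^ i * y) y := by
  have key : ∀ i : ℤ, IsConj (c ^ i * y) (c ^ (i + 1) * y) := fun i => by
    refine isConj_iff.2 ⟨y * v, ?_⟩
    have h1 : v * c ^ i * v⁻¹ = (c ^ i)⁻¹ := by rw [← conj_zpow, hvc, inv_zpow]
    calc y * v * (c ^ i * y) * (y * v)⁻¹ = y * ((v * c ^ i * v⁻¹) * (v * y * v⁻¹)) * y⁻¹ := by group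
      _ = y * ((c ^ i)⁻¹ * (y * c)) * y⁻¹ := by rw [h1, hvy]
      _ = (y * c ^ i * y⁻¹)⁻¹ * y * (y * c * y⁻¹) := by group
      _ = c ^ i * y * c⁻¹ := by rw [yci hyc, hyc, inv_inv]
      _ = c ^ i * (y * c ^ (-1 : ℤ)) := by group
      _ = c ^ i * (c * y) := by rw [ycs hyc (-1), zpow_neg, zpow_one, inv_inv]
      _ = c ^ (i + 1) * y := by rw [zpow_add_one, mul_assoc]
  induction i using Int.induction_on with
  | zero => rw [zpow_zero, one_mul]
  | succ i ih => exact (key i).symm.trans ih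
  | pred i ih =>
    have h := key (-(i : ℤ) - 1)
    rw [sub_add_cancel] at h
    exact h.trans ih

end rank

/-- **Piece B1a** -/
theorem pB1a : PB1a := by
  intro F _ n c hF hn G _ _ s hQF hO hM hcen
  have hneg : negI c ∉ Omega F (dq c) := fun h => Nat.not_even_iff_odd.2 hn (hF.neg_mem.1 h).1
  obtain ⟨j, hj⟩ := hQF.tI hneg
  have htc : s.t ∈ zpowers s.c0 := by
    rw [hj]
    exact pow_mem (mem_zpowers _) _
  have hnor : s.M.Normal := by
    rw [← normalizer_eq_top_iff, eq_top_iff]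
    intro g _
    by_contra hg
    obtain ⟨y, hy⟩ := hQF.I hn
    obtain ⟨A, hA, hAA⟩ := hF.e16
    have hK : IsComponent (s.M.map (MulAut.conj g).toMonoidHom) := S2906.component_map_conj hM g
    have hne : s.M.map (MulAut.conj g).toMonoidHom ≠ s.M := by
      intro h
      apply hg
      rw [mem_normalizer_iff]
      intro x
      constructor
      · intro hx
        rw [← h]
        exact ⟨x, hx, rfl⟩
      · intro hx
        rw [← h] at hx
        obtain ⟨x', hx', h'⟩ := hx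
        have h1 : g * x' * g⁻¹ = g * x * g⁻¹ := h'
        have h2 : x' = x := mul_left_cancel (mul_right_cancel h1)
        rwa [← h2]
    have hcom : s.M.map (MulAut.conj g).toMonoidHom ≤ centralizer (s.M : Set G) :=
      (commutator_eq_bot_iff_le_centralizer).1
        (SignalizersComponents.Components.component_commutator_eq_bot_of_ne hK hM hne)
    have h16 : Nat.card ↥((A.map s.ψ).map (MulAut.conj g).toMonoidHom) = 16 := by
      rw [card_map_of_injective (MulAut.conj g).injective, card_map_of_injective s.inj, hA]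
    have h4 := rank_le (R := centralizer (s.M : Set G)) hQF.c0Q.2 hy.yQ.2 s.t1 s.tt htc hy.yy hy.yc hy.yn hy.idx
      (E := (A.map s.ψ).map (MulAut.conj g).toMonoidHom) ?_ ?_
    · omega
    · refine le_trans (map_mono ?_) hcom
      rintro _ ⟨a, -, rfl⟩
      exact ⟨a, rfl⟩
    · rintro _ ⟨_, ⟨a, ha, rfl⟩, rfl⟩
      rw [← map_mul, ← map_mul, hAA a ha, map_one, map_one]
  refine ⟨hnor, fun y hy => ?_⟩
  by_contra hnc
  apply hcen
  have hiso : IsIsolatedInvolution s.t := by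
    refine ⟨orderOf_eq_prime (by rw [pow_two]; exact s.tt) s.t1, fun g hg => ?_⟩
    have htR : s.t ∈ centralizer (s.M : Set G) := by
      rw [mem_centralizer_iff]
      rintro _ ⟨m, rfl⟩
      exact (s.fix m).symm
    have hxR : g * s.t * g⁻¹ ∈ centralizer (s.M : Set G) :=
      (inferInstance : (centralizer (s.M : Set G)).Normal).conj_mem _ htR g
    have hxQ : g * s.t * g⁻¹ ∈ s.Q := ⟨mem_centralizer_singleton_iff.2 hg.symm.eq, hxR⟩
    have hxx : g * s.t * g⁻¹ * (g * s.t * g⁻¹) = 1 := by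
      calc g * s.t * g⁻¹ * (g * s.t * g⁻¹) = g * (s.t * s.t) * g⁻¹ := by group
        _ = 1 := by rw [s.tt]; group
    obtain ⟨q, hq, hqx⟩ := exists_conj_of_odd (Q := s.Q) hy.idx hxQ hxx
    have hqt : q * s.t = s.t * q := mem_centralizer_singleton_iff.1 hq.1
    obtain ⟨i, hi | hi⟩ := mem_dih hy.yy hy.yc hqx
    · have h1 : q * (g * s.t * g⁻¹) * q⁻¹ = s.t := by
        refine invo_unique (c := s.c0) (by rw [hi]; exact ⟨i, rfl⟩) htc (fun h => s.t1 ?_) s.t1 ?_ s.tt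
        · have h2 : s.t = (q * g)⁻¹ * (q * (g * s.t * g⁻¹) * q⁻¹) * (q * g) := by group
          rw [h2, h]
          group
        · calc q * (g * s.t * g⁻¹) * q⁻¹ * (q * (g * s.t * g⁻¹) * q⁻¹) =
              q * (g * s.t * g⁻¹ * (g * s.t * g⁻¹)) * q⁻¹ := by group
            _ = 1 := by rw [hxx]; group
      have h2 : g * s.t * g⁻¹ = q⁻¹ * s.t * q := by
        calc g * s.t * g⁻¹ = q⁻¹ * (q * (g * s.t * g⁻¹) * q⁻¹) * q := by group
          _ = q⁻¹ * s.t * q := by rw [h1]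
      rw [h2, mul_assoc, ← hqt, inv_mul_cancel_left]
    · exfalso
      apply hnc
      obtain ⟨v, -, hvy, hvc⟩ := hy.ycj
      refine IsConj.trans (isConj_iff.2 ⟨q * g, ?_⟩) (conj_all hy.yc hvy hvc i)
      rw [← hi]
      group
  intro g
  have h1 := Held.AffineCaseZ.zstar G s.t hiso g
  rw [hO, mem_bot] at h1
  have h2 : s.t * g * s.t⁻¹ = g := mul_inv_eq_one.1 h1
  exact (mul_inv_eq_iff_eq_mul.1 h2).symm

end Cfsg.Agent.H807.S33
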